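import Groth.Agent.P1Punct.Clopen
import Groth.Agent.P1Prop.FF
import Groth.Agent.Pi1Ext.PuritySch
import Groth.Agent.LC.Depth
import Mathlib.RingTheory.Flat.EquationalCriterion
import Mathlib.RingTheory.Flat.Localization

/-!
Restriction of finite étale covers from the punctured spectrum to that of `A/fA` is fully faithful
when a power of `f` kills `H¹` and `H²` with supports in the closed point.
-/

universe u

open CategoryTheory CategoryTheory.Limits AlgebraicGeometry IsLocalRing

set_option linter.style.haveILetI false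

noncomputable section

namespace Groth.Agent.P1Punct

/-- An algebra finite étale away from `f` is, up to a power of `f`, a retract of a free module. -/
theorem exists_retract (A C : Type u) [CommRing A] [IsNoetherianRing A] [CommRing C] [Algebra A C]
    [Module.Finite A C] (f : A) (het : Pi1Ext.RegPurity.EtAway A C f) :
    ∃ (d k : ℕ) (s : C →ₗ[A] Fin d → A) (π : (Fin d → A) →ₗ[A] C), ∀ x, π (s x) = f ^ k • x := by
  let S := Submonoid.powers f
  let Cf := Localization.Away (algebraMap A C f)
  haveI : IsLocalization (Algebra.algebraMapSubmonoid C S) Cf := by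
    rw [Algebra.algebraMapSubmonoid_powers]; infer_instance
  haveI : Algebra.Etale A Cf := het
  haveI : Module.FinitePresentation A C := Module.finitePresentation_of_finite A C
  haveI : Module.Flat A (LocalizedModule S C) :=
    Module.Flat.of_linearEquiv (IsLocalizedModule.iso S (IsScalarTower.toAlgHom A C Cf).toLinearMap)
  haveI : Module.Flat (Localization S) (LocalizedModule S C) :=
    (Module.flat_iff_of_isLocalization (Localization S) S (LocalizedModule S C)).2 inferInstance
  haveI : Module.Projective (Localization S) (LocalizedModule S C) := Module.Flat.projective_of_finitePresentation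
  obtain ⟨d, φ, hφ⟩ := Module.Finite.exists_fin' A C
  let φ' := LocalizedModule.map S φ
  have hφ' : Function.Surjective φ' := LocalizedModule.map_surjective S φ hφ
  obtain ⟨σ, hσ⟩ := Module.projective_lifting_property φ' LinearMap.id hφ'
  let g : C →ₗ[A] LocalizedModule S (Fin d → A) :=
    (σ.restrictScalars A).comp (LocalizedModule.mkLinearMap S C)
  obtain ⟨h, ⟨_, k, rfl⟩, hh⟩ :=
    Module.FinitePresentation.exists_lift_of_isLocalizedModule S (LocalizedModule.mkLinearMap S (Fin d → A)) g
  obtain ⟨⟨_, m, rfl⟩, hm⟩ := Module.Finite.exists_smul_of_comp_eq_of_isLocalizedModule S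
    (LocalizedModule.mkLinearMap S C) (φ.comp h) (f ^ k • LinearMap.id) (by
      refine LinearMap.ext fun x => ?_
      have h1 : LocalizedModule.mkLinearMap S (Fin d → A) (h x) =
          f ^ k • σ (LocalizedModule.mkLinearMap S C x) := LinearMap.congr_fun hh x
      have h2 : φ' (LocalizedModule.mkLinearMap S (Fin d → A) (h x)) =
          LocalizedModule.mkLinearMap S C (φ (h x)) := by simp [φ', LocalizedModule.mkLinearMap_apply]
      show LocalizedModule.mkLinearMap S C (φ (h x)) = LocalizedModule.mkLinearMap S C (f ^ k • x)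
      rw [← h2, h1, LinearMap.map_smul_of_tower, ← LinearMap.comp_apply φ' σ, hσ, LinearMap.id_apply]
      exact (map_smul _ _ _).symm)
  refine ⟨d, m + k, f ^ m • h, φ, fun x => ?_⟩
  rw [LinearMap.smul_apply, map_smul, pow_add, mul_smul]
  exact LinearMap.congr_fun hm x

variable {A : Type u} [CommRing A] [IsNoetherianRing A]

theorem exists_kills {l : ℕ} (g : Fin l → A) (I : Ideal A) (hI : I = Ideal.span (Set.range g)) (f : A)
    (h1 : ∃ n : ℕ, ∀ x : LocCoh.H I 1 A, f ^ n • x = 0) (h2 : ∃ n : ℕ, ∀ x : LocCoh.H I 2 A, f ^ n • x = 0)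
    (C : Type u) [CommRing C] [Algebra A C] [Module.Finite A C] (het : Pi1Ext.RegPurity.EtAway A C f) :
    ∃ c : ℕ, KillsGlue g (f ^ c) C ∧ KillsCobound g (f ^ c) C := by
  obtain ⟨n₁, h1⟩ := h1
  obtain ⟨n₂, h2⟩ := h2
  obtain ⟨d, k, s, π, hπ⟩ := exists_retract A C f het
  refine ⟨n₁ + n₂ + k, ?_, ?_⟩
  · rw [pow_add]
    refine killsGlue_retract g s π hπ (killsGlue_pi g (killsGlue_of_H g I hI fun z => ?_) d)
    rw [pow_add, mul_comm, mul_smul, h1 z, smul_zero]
  · rw [pow_add]
    refine killsCobound_retract g s π hπ (killsCobound_pi g (killsCobound_of_H g I hI fun z => ?_) d)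
    rw [pow_add, mul_smul, h2 z, smul_zero]

theorem lifts_homeo {Y Y' : Type u} [TopologicalSpace Y] [TopologicalSpace Y'] (e : Y' ≃ₜ Y) {Z : Set Y}
    (h : HensCouple7.Lifts Z) : HensCouple7.Lifts (e ⁻¹' Z) := by
  intro V hV
  let r : Z → (e ⁻¹' Z : Set Y') := fun z => ⟨e.symm z, by simp⟩
  have hr : Continuous r := (e.symm.continuous.comp continuous_subtype_val).subtype_mk _
  obtain ⟨U, ⟨hU, hUV⟩, hu⟩ := h (r ⁻¹' V) (hV.preimage hr)
  refine ⟨e ⁻¹' U, ⟨hU.preimage e.continuous, Set.ext fun z => ?_⟩, fun U' hU' => ?_⟩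
  · refine (Set.ext_iff.1 hUV ⟨e z, z.2⟩).trans ?_
    simp [r]
  · have := hu (e.symm ⁻¹' U') ⟨hU'.1.preimage e.symm.continuous, Set.ext fun z => Set.ext_iff.1 hU'.2 (r z)⟩
    rw [← this]
    exact Set.ext fun x => by simp

variable [IsLocalRing A] (f : A) (hf : f ∈ maximalIdeal A)

open Pi1Ext.PuritySch in
include hf in
theorem lifts_cover (h1 : ∃ n : ℕ, ∀ x : LocCoh.H (maximalIdeal A) 1 A, f ^ n • x = 0)
    (h2 : ∃ n : ℕ, ∀ x : LocCoh.H (maximalIdeal A) 2 A, f ^ n • x = 0) [HenselianRing A (Ideal.span {f})]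
    (W : FEt.Cat (FEt.puncturedSpec A : Scheme.{u})) :
    HensCouple7.Lifts ((W.hom ≫ (FEt.puncturedSpec A).ι).base ⁻¹' PrimeSpectrum.zeroLocus {f}) := by
  obtain ⟨C, _, _, _, hC, ⟨e⟩⟩ := exists_finite_model W
  obtain ⟨l, g, hg⟩ := Submodule.fg_iff_exists_fin_generating_family.1 (IsNoetherian.noetherian (maximalIdeal A))
  obtain ⟨c, hc1, hc2⟩ := exists_kills g _ hg.symm f h1 h2 C (hC f hf)
  have hl := lifts_punctured g f hc1 hc2
  let ei : W.left ⟶ pullback (sp A C) (FEt.puncturedSpec A).ι := e.inv.left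
  haveI : IsIso ei := inferInstanceAs (IsIso ((MorphismProperty.Over.forget _ _ _ ⋙ Over.forget _).map e.inv))
  have hei : ei ≫ rest A C = W.hom := MorphismProperty.Over.w e.inv
  let j : W.left ⟶ Spec (CommRingCat.of C) := ei ≫ pullback.fst (sp A C) (FEt.puncturedSpec A).ι
  haveI : IsOpenImmersion j := IsOpenImmersion.comp _ _
  have hjA : j ≫ sp A C = W.hom ≫ (FEt.puncturedSpec A).ι := by
    simp only [j, Category.assoc]
    rw [pullback.condition, ← hei, Category.assoc]
  have hrange : (Set.range j.base : Set (PrimeSpectrum C)) = O g C := by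
    show Set.range (ei ≫ pullback.fst (sp A C) (FEt.puncturedSpec A).ι).base = _
    rw [Scheme.Hom.comp_base, TopCat.coe_comp, Function.Surjective.range_comp ei.surjective,
      Scheme.Pullback.range_fst, Scheme.Opens.range_ι]
    refine Set.ext fun (q : PrimeSpectrum C) => ?_
    show PrimeSpectrum.comap (algebraMap A C) q ≠ IsLocalRing.closedPoint A ↔ q ∈ ⋃ i, _
    simp only [Set.mem_iUnion, ne_eq]
    rw [← not_iff_not, not_not, not_exists]
    refine ⟨fun h i hi => hi ?_, fun h => PrimeSpectrum.ext ?_⟩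
    · show g i ∈ (PrimeSpectrum.comap (algebraMap A C) q).asIdeal
      rw [h]
      exact hg.le (Submodule.subset_span (Set.mem_range_self i))
    · refine ((IsLocalRing.maximalIdeal.isMaximal A).eq_of_le (Ideal.IsPrime.ne_top inferInstance) ?_).symm
      rw [← hg]
      refine Submodule.span_le.2 ?_
      rintro _ ⟨i, rfl⟩
      exact not_not.1 (h i)
  let φ : W.left ≃ₜ O g C := j.isOpenEmbedding.isEmbedding.toHomeomorph.trans (Homeomorph.setCongr hrange)
  have hset : ((W.hom ≫ (FEt.puncturedSpec A).ι).base ⁻¹' PrimeSpectrum.zeroLocus {f} : Set W.left) =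
      φ ⁻¹' (Subtype.val ⁻¹' PrimeSpectrum.zeroLocus {algebraMap A C f}) := by
    ext x
    rw [← hjA]
    show {f} ⊆ ((PrimeSpectrum.comap (algebraMap A C) (j.base x)).asIdeal : Set A) ↔
      {algebraMap A C f} ⊆ ((φ x).1.asIdeal : Set C)
    rw [Set.singleton_subset_iff, Set.singleton_subset_iff]
    exact Iff.rfl
  rw [hset]
  exact lifts_homeo φ hl

include hf in
theorem restrict_fullyFaithful_punctured (h1 : ∃ n : ℕ, ∀ x : LocCoh.H (maximalIdeal A) 1 A, f ^ n • x = 0)
    (h2 : ∃ n : ℕ, ∀ x : LocCoh.H (maximalIdeal A) 2 A, f ^ n • x = 0) [HenselianRing A (Ideal.span {f})] :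
    (FEt.restrict (pullback.fst (FEt.puncturedSpec A).ι
      (Spec.map (CommRingCat.ofHom (Ideal.Quotient.mk (Ideal.span {f})))))).Full ∧
    (FEt.restrict (pullback.fst (FEt.puncturedSpec A).ι
      (Spec.map (CommRingCat.ofHom (Ideal.Quotient.mk (Ideal.span {f})))))).Faithful := by
  haveI : IsClosedImmersion (Spec.map (CommRingCat.ofHom (Ideal.Quotient.mk (Ideal.span {f})))) :=
    IsClosedImmersion.spec_of_surjective _ Ideal.Quotient.mk_surjective
  have hrange : Set.range (pullback.fst (FEt.puncturedSpec A).ι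
      (Spec.map (CommRingCat.ofHom (Ideal.Quotient.mk (Ideal.span {f}))))).base =
      (FEt.puncturedSpec A).ι.base ⁻¹' PrimeSpectrum.zeroLocus {f} := by
    rw [Scheme.Pullback.range_fst, HensCouple7.range_specMap_mk, PrimeSpectrum.zeroLocus_span]
  refine P1Prop.restrict_fullyFaithful_of_lifts _ ?_ fun W => ?_
  · rw [hrange]
    exact lifts_cover f hf h1 h2
      (MorphismProperty.Over.mk ⊤ (𝟙 _) (MorphismProperty.id_mem FEt.prop _))
  · rw [hrange]
    exact lifts_cover f hf h1 h2 W

theorem exists_H_zero_of_depth {n : ℕ} (hn : (3 : ℕ∞) ≤ LocCoh.depth A A) (i : ℕ) (hi : i < 3) :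
    ∀ x : LocCoh.H (maximalIdeal A) i A, f ^ n • x = 0 := fun x => by
  haveI : Subsingleton (LocCoh.H (maximalIdeal A) i A) := (LC.le_idealDepth_iff_H (maximalIdeal A) A 3).1 hn i hi
  exact Subsingleton.elim _ _

end Groth.Agent.P1Punct
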