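import Groth.Agent.P1Punct.Glue
import Groth.Agent.Hensel.Factor
import Groth.Agent.HensCouple7.ProperPair
import Mathlib.RingTheory.Spectrum.Prime.Topology

/-!
Clopen subsets of the complement of `V(I)` in the spectrum of a finite algebra over a henselian
pair `(A, f)`, when a power of `f` glues sections and kills cocycles.
-/

universe u

open PrimeSpectrum

set_option linter.style.haveILetI false

namespace Groth.Agent.P1Punct

theorem exists_torsion_bound {R : Type u} [CommRing R] [IsNoetherianRing R] (f : R) :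
    ∃ c : ℕ, ∀ (x : R) (n : ℕ), f ^ n * x = 0 → f ^ c * x = 0 := by
  let T : Ideal R :=
    { carrier := {x | ∃ n : ℕ, f ^ n * x = 0}
      zero_mem' := ⟨0, mul_zero _⟩
      add_mem' := fun {x y} ⟨n, hn⟩ ⟨m, hm⟩ => ⟨n + m, by
        rw [mul_add, pow_add, mul_assoc, mul_assoc, hm, mul_left_comm, hn, mul_zero, mul_zero, add_zero]⟩
      smul_mem' := fun a x ⟨n, hn⟩ => ⟨n, by rw [smul_eq_mul, mul_left_comm, hn, mul_zero]⟩ }
  obtain ⟨s, hs⟩ := (IsNoetherian.noetherian T : T.FG)
  have hs' : ∀ x : s, ∃ n : ℕ, f ^ n * (x : R) = 0 := fun x => hs.le (Submodule.subset_span x.2)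
  choose n hn using hs'
  refine ⟨Finset.univ.sup n, fun x m hx => ?_⟩
  have hxT : x ∈ Submodule.span R (s : Set R) := hs.ge ⟨m, hx⟩
  refine Submodule.span_induction ?_ ?_ ?_ ?_ hxT
  · intro z hz
    obtain ⟨k, hk⟩ := Nat.exists_eq_add_of_le' (Finset.le_sup (f := n) (Finset.mem_univ ⟨z, hz⟩))
    rw [hk, pow_add, mul_assoc, hn ⟨z, hz⟩, mul_zero]
  · exact mul_zero _
  · intro u v _ _ hu hv; rw [mul_add, hu, hv, add_zero]
  · intro a u _ hu; rw [smul_eq_mul, mul_left_comm, hu, mul_zero]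

variable {A C : Type u} [CommRing A] [CommRing C] [Algebra A C] {l : ℕ} (g : Fin l → A)

local notation "gC" i => algebraMap A C (g i)

/-- Sections on the `i`-th basic open. -/
abbrev L (i : Fin l) := Localization.Away (gC i)

/-- Sections on the overlaps. -/
abbrev L₂ (p : Fin l × Fin l) := Localization.Away ((gC p.1) * (gC p.2))

theorem isUnit_fst (i j : Fin l) : IsUnit (algebraMap C (L₂ (C := C) g (i, j)) (gC i)) :=
  isUnit_of_dvd_unit (map_dvd _ (dvd_mul_right _ _))
    (IsLocalization.Away.algebraMap_isUnit ((gC i) * (gC j)))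

theorem isUnit_snd (i j : Fin l) : IsUnit (algebraMap C (L₂ (C := C) g (i, j)) (gC j)) :=
  isUnit_of_dvd_unit (map_dvd _ (dvd_mul_left _ _))
    (IsLocalization.Away.algebraMap_isUnit ((gC i) * (gC j)))

/-- Restriction to an overlap. -/
noncomputable def ρ₁ (i j : Fin l) : L (C := C) g i →+* L₂ (C := C) g (i, j) :=
  IsLocalization.Away.lift (gC i) (isUnit_fst g i j)

/-- Restriction to an overlap. -/
noncomputable def ρ₂ (i j : Fin l) : L (C := C) g j →+* L₂ (C := C) g (i, j) :=
  IsLocalization.Away.lift (gC j) (isUnit_snd g i j)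

theorem ρ₁_algebraMap (i j : Fin l) (c : C) :
    ρ₁ g i j (algebraMap C (L (C := C) g i) c) = algebraMap C _ c :=
  IsLocalization.Away.lift_eq _ _ c

theorem ρ₂_algebraMap (i j : Fin l) (c : C) :
    ρ₂ g i j (algebraMap C (L (C := C) g j) c) = algebraMap C _ c :=
  IsLocalization.Away.lift_eq _ _ c

/-- Sections on the union of the basic opens. -/
noncomputable def sec : Subring (∀ i, L (C := C) g i) where
  carrier := {x | ∀ i j, ρ₁ g i j (x i) = ρ₂ g i j (x j)}
  one_mem' i j := by simp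
  mul_mem' hx hy i j := by simp only [Pi.mul_apply, map_mul, hx i j, hy i j]
  zero_mem' i j := by simp
  add_mem' hx hy i j := by simp only [Pi.add_apply, map_add, hx i j, hy i j]
  neg_mem' hx i j := by simp only [Pi.neg_apply, map_neg, hx i j]

/-- A family of fractions. -/
noncomputable def frac (N : ℕ) (a : Fin l → C) : ∀ i, L (C := C) g i := fun i =>
  algebraMap C _ (a i) * ((IsLocalization.Away.algebraMap_isUnit (S := L (C := C) g i) (gC i)).unit⁻¹ : (L (C := C) g i)ˣ).val ^ N

theorem frac_spec (N : ℕ) (a : Fin l → C) (i : Fin l) :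
    frac g N a i * algebraMap C _ (gC i) ^ N = algebraMap C _ (a i) := by
  rw [frac, mul_assoc, ← mul_pow, IsUnit.val_inv_mul, one_pow, mul_one]

theorem eq_frac {N : ℕ} {a : Fin l → C} {i : Fin l} {x : L (C := C) g i}
    (h : x * algebraMap C _ (gC i) ^ N = algebraMap C _ (a i)) : x = frac g N a i :=
  ((IsLocalization.Away.algebraMap_isUnit (gC i)).pow N).mul_right_cancel (h.trans (frac_spec g N a i).symm)

theorem frac_mem_sec {N : ℕ} {a : Fin l → C} (h : Compat g N a) : frac g N a ∈ sec (C := C) g := by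
  obtain ⟨P, hP⟩ := h
  intro i j
  refine (((isUnit_fst g i j).mul (isUnit_snd g i j)).pow (P + N)).mul_right_cancel ?_
  have e1 := congrArg (ρ₁ g i j) (frac_spec g N a i)
  have e2 := congrArg (ρ₂ g i j) (frac_spec g N a j)
  rw [map_mul, map_pow, ρ₁_algebraMap, ρ₁_algebraMap] at e1
  rw [map_mul, map_pow, ρ₂_algebraMap, ρ₂_algebraMap] at e2
  have e3 := congrArg (algebraMap C (L₂ (C := C) g (i, j))) (hP i j)
  simp only [Algebra.smul_def, map_mul, map_pow] at e3
  linear_combination (algebraMap C (L₂ (C := C) g (i, j)) (gC i) * algebraMap C _ (gC j)) ^ P *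
    algebraMap C _ (gC j) ^ N * e1 -
    (algebraMap C (L₂ (C := C) g (i, j)) (gC i) * algebraMap C _ (gC j)) ^ P *
    algebraMap C _ (gC i) ^ N * e2 + e3

theorem exists_frac (x : ∀ i, L (C := C) g i) : ∃ (N : ℕ) (a : Fin l → C), x = frac g N a := by
  have h := fun i => IsLocalization.Away.surj (gC i) (x i)
  choose n a ha using h
  refine ⟨Finset.univ.sup n, fun i => (gC i) ^ (Finset.univ.sup n - n i) * a i,
    funext fun i => eq_frac g ?_⟩
  obtain ⟨k, hk⟩ := Nat.exists_eq_add_of_le' (Finset.le_sup (f := n) (Finset.mem_univ i))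
  rw [hk, Nat.add_sub_cancel, map_mul, map_pow, ← ha i]
  ring

theorem exists_frac_ge (x : ∀ i, L (C := C) g i) :
    ∃ N₀ : ℕ, ∀ N, N₀ ≤ N → ∃ a : Fin l → C, x = frac g N a := by
  obtain ⟨N₀, a, rfl⟩ := exists_frac g x
  refine ⟨N₀, fun N hN => ?_⟩
  obtain ⟨k, rfl⟩ := Nat.exists_eq_add_of_le' hN
  refine ⟨fun i => (gC i) ^ k * a i, funext fun i => eq_frac g ?_⟩
  rw [map_mul, map_pow, pow_add, ← frac_spec g N₀ a i]
  ring

theorem compat_of_mem_sec {N : ℕ} {a : Fin l → C} (h : frac g N a ∈ sec (C := C) g) : Compat g N a := by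
  have h' : ∀ p : Fin l × Fin l, ∃ P : ℕ,
      (g p.1 * g p.2) ^ P • g p.2 ^ N • a p.1 = (g p.1 * g p.2) ^ P • g p.1 ^ N • a p.2 := by
    rintro ⟨i, j⟩
    have e1 := congrArg (ρ₁ g i j) (frac_spec g N a i)
    have e2 := congrArg (ρ₂ g i j) (frac_spec g N a j)
    rw [map_mul, map_pow, ρ₁_algebraMap, ρ₁_algebraMap] at e1
    rw [map_mul, map_pow, ρ₂_algebraMap, ρ₂_algebraMap, ← h i j] at e2
    have e3 : algebraMap C (L₂ (C := C) g (i, j)) ((gC j) ^ N * a i) =
        algebraMap C _ ((gC i) ^ N * a j) := by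
      rw [map_mul, map_mul, map_pow, map_pow]
      linear_combination algebraMap C (L₂ (C := C) g (i, j)) (gC i) ^ N * e2 -
        algebraMap C (L₂ (C := C) g (i, j)) (gC j) ^ N * e1
    obtain ⟨⟨_, P, rfl⟩, hP⟩ :=
      (IsLocalization.eq_iff_exists (Submonoid.powers ((gC i) * (gC j))) _).1 e3
    exact ⟨P, by simpa only [Algebra.smul_def, map_mul, map_pow] using hP⟩
  choose P hP using h'
  refine ⟨Finset.univ.sup P, fun i j => ?_⟩
  obtain ⟨k, hk⟩ := Nat.exists_eq_add_of_le' (Finset.le_sup (f := P) (Finset.mem_univ (i, j)))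
  rw [hk, pow_add, mul_smul, hP (i, j), mul_smul]

variable [IsNoetherianRing A] [Module.Finite A C] (f : A) [HenselianRing A (Ideal.span {f})]

section

variable {c : ℕ} (hglue : KillsGlue g (f ^ c) C)

include hglue

theorem pow_mul_mem_range {x : ∀ i, L (C := C) g i} (hx : x ∈ sec (C := C) g) :
    ∃ m : C, algebraMap C (∀ i, L (C := C) g i) m = algebraMap A (∀ i, L (C := C) g i) f ^ c * x := by
  obtain ⟨N, a, rfl⟩ := exists_frac g x
  obtain ⟨m, P, hm⟩ := hglue N a (compat_of_mem_sec g hx)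
  refine ⟨m, funext fun i => ?_⟩
  have e := congrArg (algebraMap C (L (C := C) g i)) (hm i)
  simp only [Pi.smul_apply, Algebra.smul_def, map_mul, map_pow,
    ← IsScalarTower.algebraMap_apply A C (L (C := C) g i)] at e
  have e1 := frac_spec g N a i
  rw [← IsScalarTower.algebraMap_apply A C (L (C := C) g i)] at e1
  refine ((IsLocalization.Away.algebraMap_isUnit (S := L (C := C) g i) (gC i)).pow (P + N)).mul_left_cancel ?_
  simp only [Pi.mul_apply, Pi.pow_apply, Pi.algebraMap_apply,
    ← IsScalarTower.algebraMap_apply A C (L (C := C) g i)]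
  linear_combination e - algebraMap A (L (C := C) g i) (g i) ^ P * algebraMap A (L (C := C) g i) f ^ c * e1

/-- A section divisible by every power of `f` is killed by the gluing exponent. -/
theorem pow_mul_eq_zero_of_forall {x : ∀ i, L (C := C) g i}
    (h : ∀ n : ℕ, ∃ v ∈ sec (C := C) g, x = algebraMap A (∀ i, L (C := C) g i) f ^ n * v) :
    algebraMap A (∀ i, L (C := C) g i) f ^ c * x = 0 := by
  let P₁ := ∀ i, L (C := C) g i
  let F : P₁ := algebraMap A P₁ f
  let M : Submodule A P₁ := LinearMap.range (IsScalarTower.toAlgHom A C P₁).toLinearMap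
  haveI : Module.Finite A M := Module.Finite.range _
  have hx : x ∈ sec (C := C) g := by
    obtain ⟨v, hv, hxv⟩ := h 0
    rw [pow_zero, one_mul] at hxv
    exact hxv ▸ hv
  obtain ⟨m, hm⟩ := pow_mul_mem_range g f hglue hx
  let xm : M := ⟨F ^ c * x, m, hm⟩
  have hinf : xm ∈ ⨅ n : ℕ, Ideal.span {f} ^ n • (⊤ : Submodule A M) := Submodule.mem_iInf _ |>.2 fun n => by
    obtain ⟨v, hv, hxv⟩ := h n
    obtain ⟨m', hm'⟩ := pow_mul_mem_range g f hglue hv
    have e : xm = f ^ n • (⟨F ^ c * v, m', hm'⟩ : M) := Subtype.ext (by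
      show F ^ c * x = f ^ n • (F ^ c * v)
      rw [hxv, Algebra.smul_def, map_pow]
      ring)
    rw [e]
    exact Submodule.smul_mem_smul (Ideal.pow_mem_pow (Ideal.mem_span_singleton_self f) n) trivial
  rw [Ideal.iInf_pow_smul_eq_bot_of_le_jacobson _ HenselianRing.jac] at hinf
  exact congrArg Subtype.val ((Submodule.mem_bot A).1 hinf)

/-- Almost idempotent sections are congruent to idempotent sections. -/
theorem exists_idempotent_sec : ∃ d : ℕ, ∀ x ∈ sec (C := C) g, ∀ p : ℕ, d ≤ p → 1 ≤ p →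
    (∃ w ∈ sec (C := C) g, x * x - x = algebraMap A (∀ i, L (C := C) g i) f ^ p * w) →
    ∃ e ∈ sec (C := C) g, IsIdempotentElem e ∧
      ∃ w, e - x = algebraMap A (∀ i, L (C := C) g i) f ^ p * w := by
  classical
  haveI : IsNoetherianRing C := IsNoetherianRing.of_finite A C
  haveI : ∀ i, IsNoetherianRing (L (C := C) g i) := fun i =>
    IsLocalization.isNoetherianRing (Submonoid.powers (gC i)) _ inferInstance
  let P₁ := ∀ i, L (C := C) g i
  let F : P₁ := algebraMap A P₁ f
  haveI : IsNoetherianRing P₁ := inferInstance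
  obtain ⟨c₁, hc₁⟩ := exists_torsion_bound F
  refine ⟨c₁, fun x hx p hp hp1 hxw => ?_⟩
  obtain ⟨w, hw, hxw⟩ := hxw
  let T : Ideal P₁ := LinearMap.ker (LinearMap.mulLeft P₁ (F ^ c₁))
  let Q := P₁ ⧸ T
  let q : P₁ →ₐ[A] Q := Ideal.Quotient.mkₐ A T
  let S : Subalgebra A P₁ :=
    { (sec (C := C) g).toSubsemiring with
      algebraMap_mem' := fun a i j => by
        show ρ₁ g i j (algebraMap A (L (C := C) g i) a) = ρ₂ g i j (algebraMap A (L (C := C) g j) a)
        rw [IsScalarTower.algebraMap_apply A C (L (C := C) g i),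
          IsScalarTower.algebraMap_apply A C (L (C := C) g j), ρ₁_algebraMap, ρ₂_algebraMap] }
  let B : Subalgebra A Q := S.map q
  have hT : ∀ z, q z = 0 ↔ F ^ c₁ * z = 0 := fun z => Ideal.Quotient.eq_zero_iff_mem
  have hcancel : ∀ (z : Q) (n : ℕ), q F ^ n * z = 0 → z = 0 := by
    intro z n hz
    obtain ⟨z, rfl⟩ := Ideal.Quotient.mkₐ_surjective A T z
    rw [← map_pow, ← map_mul, hT, ← mul_assoc, ← pow_add] at hz
    exact (hT z).2 (hc₁ z _ hz)
  haveI : Module.Finite A B := by
    let μ : B →ₗ[A] Q := (LinearMap.mulLeft A (q F ^ c)).comp B.val.toLinearMap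
    have hμ : Function.Injective μ := fun u v huv =>
      Subtype.ext (sub_eq_zero.1 (hcancel _ c ((mul_sub _ _ _).trans (sub_eq_zero.2 huv))))
    let R' : Submodule A Q := LinearMap.range (q.comp (IsScalarTower.toAlgHom A C P₁)).toLinearMap
    have hrange : ∀ u, μ u ∈ R' := by
      rintro ⟨_, z, hz, rfl⟩
      obtain ⟨m, hm⟩ := pow_mul_mem_range g f hglue (x := z) hz
      refine ⟨m, ?_⟩
      show q (algebraMap C P₁ m) = q F ^ c * q z
      rw [hm, map_mul, map_pow]
    haveI : Module.Finite A R' := Module.Finite.range _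
    exact Module.Finite.of_injective (μ.codRestrict R' hrange) (fun u v h => hμ (congrArg Subtype.val h))
  let xb : B := ⟨q x, x, hx, rfl⟩
  let wb : B := ⟨q w, w, hw, rfl⟩
  have hxb : xb * xb - xb = algebraMap A B f ^ p * wb := Subtype.ext (by
    show q x * q x - q x = algebraMap A Q f ^ p * q w
    rw [← q.commutes f, ← map_mul, ← map_sub, ← map_pow, ← map_mul]
    exact congrArg q hxw)
  have hfmem : algebraMap A B f ∈ (Ideal.span {f}).map (algebraMap A B) :=
    Ideal.mem_map_of_mem _ (Ideal.mem_span_singleton_self f)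
  obtain ⟨e, he, hex⟩ := Hensel.exists_idempotent_lift_of_finite (Ideal.span {f}) xb (by
    rw [hxb]; exact Ideal.mul_mem_right _ _ (Ideal.pow_mem_of_mem _ hfmem p hp1))
  rw [Ideal.map_span, Set.image_singleton, Ideal.mem_span_singleton'] at hex
  obtain ⟨r, hr⟩ := hex
  -- the congruence improves to the order of the error
  have hjac : algebraMap A B f ∈ Ideal.jacobson (⊥ : Ideal B) :=
    Hensel.map_le_jacobson_of_isIntegral HenselianRing.jac hfmem
  obtain ⟨v, hv⟩ : ∃ v : B, e - xb = algebraMap A B f ^ p * v := by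
    obtain ⟨v', hv'⟩ : IsUnit (1 - e - xb) := by
      have h1 : IsUnit (1 - 2 * e : B) := IsUnit.of_mul_eq_one (1 - 2 * e) (by
        linear_combination 4 * he.eq)
      have h2 : 1 - e - xb = (1 - 2 * e) * (1 + algebraMap A B f * (r * (1 - 2 * e))) := by
        linear_combination (-4 : B) * (algebraMap A B f * r) * he.eq - hr
      rw [h2]
      refine h1.mul ?_
      have := (Ideal.mem_jacobson_bot.1 hjac) (r * (1 - 2 * e))
      rwa [add_comm]
    refine ⟨wb * ↑v'⁻¹, ?_⟩
    rw [← mul_assoc, Units.eq_mul_inv_iff_mul_eq, hv']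
    linear_combination hxb - he.eq
  obtain ⟨e0, he0, heq⟩ := e.2
  obtain ⟨v0, hv0, hveq⟩ := v.2
  let e1 : P₁ := x + F ^ p * v0
  have hF : F ∈ sec (C := C) g := S.algebraMap_mem f
  have he1 : e1 ∈ sec (C := C) g := add_mem hx (mul_mem (pow_mem hF p) hv0)
  refine ⟨e1, he1, ?_, v0, by show x + F ^ p * v0 - x = _; ring⟩
  have hqe : q e1 = (e : Q) := by
    have := congrArg Subtype.val hv
    show q (x + F ^ p * v0) = (e : Q)
    have hveq' : q v0 = (v : Q) := hveq
    rw [map_add, map_mul, map_pow, hveq', show q F = algebraMap A Q f from q.commutes f]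
    have h2 : (e : Q) - q x = algebraMap A Q f ^ p * (v : Q) := this
    linear_combination -h2
  have h0 : q (e1 * e1 - e1) = 0 := by
    rw [map_sub, map_mul, hqe, sub_eq_zero]
    exact congrArg Subtype.val he.eq
  obtain ⟨u, hu⟩ : ∃ u, e1 * e1 - e1 = F ^ p * u :=
    ⟨w + 2 * x * v0 + F ^ p * v0 * v0 - v0, by
      show (x + F ^ p * v0) * (x + F ^ p * v0) - (x + F ^ p * v0) = _
      linear_combination hxw⟩
  rw [hu, hT, ← mul_assoc, ← pow_add] at h0
  have h1 := hc₁ u _ h0
  obtain ⟨k, rfl⟩ := Nat.exists_eq_add_of_le' hp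
  show e1 * e1 = e1
  rw [← sub_eq_zero, hu, pow_add, mul_assoc, h1, mul_zero]

end

end Groth.Agent.P1Punct
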