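import Groth.Agent.P1Punct.Alg

/-!
Clopen subsets of a union of basic opens lift uniquely from its part in `V(f)`.
-/

universe u

open PrimeSpectrum TopologicalSpace

set_option linter.style.haveILetI false

namespace Groth.Agent.P1Punct

variable {A C : Type u} [CommRing A] [CommRing C] [Algebra A C] {l : ℕ} (g : Fin l → A)

/-- The union of the basic opens. -/
abbrev O (C : Type u) [CommRing C] [Algebra A C] : Set (PrimeSpectrum C) :=
  ⋃ i, (basicOpen (algebraMap A C (g i)) : Set (PrimeSpectrum C))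

/-- The point of the union below a prime of a chart. -/
noncomputable def pt (i : Fin l) (q : PrimeSpectrum (L (C := C) g i)) : O g C :=
  ⟨comap (algebraMap C _) q, Set.mem_iUnion.2 ⟨i, by
    rw [← localization_away_comap_range (L (C := C) g i) (algebraMap A C (g i))]
    exact ⟨q, rfl⟩⟩⟩

theorem continuous_pt (i : Fin l) : Continuous (pt (C := C) g i) :=
  (PrimeSpectrum.continuous_comap (algebraMap C (L (C := C) g i))).subtype_mk _

theorem pt_injective (i : Fin l) : Function.Injective (pt (C := C) g i) := fun q q' h =>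
  (localization_away_isOpenEmbedding (L (C := C) g i) (algebraMap A C (g i))).injective
    (congrArg Subtype.val h)

theorem exists_pt {i : Fin l} (z : O g C) (hz : algebraMap A C (g i) ∉ z.1.asIdeal) :
    ∃ q, pt g i q = z := by
  obtain ⟨q, hq⟩ : z.1 ∈ Set.range (comap (algebraMap C (L (C := C) g i))) := by
    rw [localization_away_comap_range (L (C := C) g i) (algebraMap A C (g i))]; exact hz
  exact ⟨q, Subtype.ext hq⟩

theorem comap_ρ₁ (i j : Fin l) (r : PrimeSpectrum (L₂ (C := C) g (i, j))) :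
    comap (algebraMap C (L (C := C) g i)) (comap (ρ₁ g i j) r) = comap (algebraMap C _) r := by
  apply PrimeSpectrum.ext
  ext c
  show ρ₁ g i j (algebraMap C _ c) ∈ r.asIdeal ↔ algebraMap C _ c ∈ r.asIdeal
  rw [ρ₁_algebraMap]

theorem comap_ρ₂ (i j : Fin l) (r : PrimeSpectrum (L₂ (C := C) g (i, j))) :
    comap (algebraMap C (L (C := C) g j)) (comap (ρ₂ g i j) r) = comap (algebraMap C _) r := by
  apply PrimeSpectrum.ext
  ext c
  show ρ₂ g i j (algebraMap C _ c) ∈ r.asIdeal ↔ algebraMap C _ c ∈ r.asIdeal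
  rw [ρ₂_algebraMap]

theorem pt_eq_pt {i j : Fin l} (r : PrimeSpectrum (L₂ (C := C) g (i, j))) :
    pt g i (comap (ρ₁ g i j) r) = pt g j (comap (ρ₂ g i j) r) :=
  Subtype.ext ((comap_ρ₁ g i j r).trans (comap_ρ₂ g i j r).symm)

theorem exists_overlap {i j : Fin l} {q : PrimeSpectrum (L (C := C) g i)}
    {q' : PrimeSpectrum (L (C := C) g j)} (h : pt g i q = pt g j q') :
    ∃ r, comap (ρ₁ g i j) r = q ∧ comap (ρ₂ g i j) r = q' := by
  have hv : comap (algebraMap C _) q = comap (algebraMap C _) q' := congrArg Subtype.val h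
  have hi : algebraMap A C (g i) ∉ (comap (algebraMap C (L (C := C) g i)) q).asIdeal := fun hm =>
    q.2.ne_top (Ideal.eq_top_of_isUnit_mem _ hm (IsLocalization.Away.algebraMap_isUnit _))
  have hj : algebraMap A C (g j) ∉ (comap (algebraMap C (L (C := C) g i)) q).asIdeal := fun hm => by
    rw [hv] at hm
    exact q'.2.ne_top (Ideal.eq_top_of_isUnit_mem _ hm (IsLocalization.Away.algebraMap_isUnit _))
  obtain ⟨r, hr⟩ : comap (algebraMap C (L (C := C) g i)) q ∈
      Set.range (comap (algebraMap C (L₂ (C := C) g (i, j)))) := by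
    rw [localization_away_comap_range (L₂ (C := C) g (i, j)) ((algebraMap A C (g i)) * algebraMap A C (g j))]
    exact fun hm => ((comap (algebraMap C (L (C := C) g i)) q).2.mem_or_mem hm).elim hi hj
  exact ⟨r, pt_injective g i (Subtype.ext ((comap_ρ₁ g i j r).trans hr)),
    pt_injective g j (Subtype.ext (((comap_ρ₂ g i j r).trans hr).trans hv))⟩

/-- The subset cut out by an idempotent section. -/
def cut (e : ∀ i, L (C := C) g i) : Set (O g C) := {z | ∃ i q, pt g i q = z ∧ e i ∉ q.asIdeal}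

theorem pt_mem_cut_iff {e : ∀ i, L (C := C) g i} (he : e ∈ sec (C := C) g) (i : Fin l)
    (q : PrimeSpectrum (L (C := C) g i)) : pt g i q ∈ cut g e ↔ e i ∉ q.asIdeal := by
  refine ⟨?_, fun h => ⟨i, q, rfl, h⟩⟩
  rintro ⟨j, q', hq', hne⟩ hmem
  obtain ⟨r, rfl, rfl⟩ := exists_overlap g hq'.symm
  refine hne ?_
  show ρ₂ g i j (e j) ∈ r.asIdeal
  rw [← he i j]
  exact hmem

theorem isOpen_cut (e : ∀ i, L (C := C) g i) : IsOpen (cut g e) := by
  have : cut g e = Subtype.val ⁻¹' ⋃ i, comap (algebraMap C (L (C := C) g i)) '' basicOpen (e i) := by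
    ext z
    simp only [cut, Set.mem_setOf_eq, Set.mem_preimage, Set.mem_iUnion, Set.mem_image]
    exact exists_congr fun i => exists_congr fun q =>
      ⟨fun h => ⟨h.2, congrArg Subtype.val h.1⟩, fun h => ⟨Subtype.ext h.2, h.1⟩⟩
  rw [this]
  exact (isOpen_iUnion fun i => (localization_away_isOpenEmbedding _ (algebraMap A C (g i))).isOpenMap _
    (basicOpen (e i)).isOpen).preimage continuous_subtype_val

theorem isClopen_cut {e : ∀ i, L (C := C) g i} (he : e ∈ sec (C := C) g) (hee : IsIdempotentElem e) :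
    IsClopen (cut g e) := by
  have hc : (cut g e)ᶜ = cut g (1 - e) := by
    ext z
    obtain ⟨i, hi⟩ := Set.mem_iUnion.1 z.2
    obtain ⟨q, rfl⟩ := exists_pt g z hi
    rw [Set.mem_compl_iff, pt_mem_cut_iff g he, pt_mem_cut_iff g ((sec g).sub_mem (sec g).one_mem he),
      not_not]
    refine ⟨fun h h' => q.2.ne_top ((Ideal.eq_top_iff_one _).2 ?_), fun h => ?_⟩
    · have := q.asIdeal.add_mem h h'
      rwa [Pi.sub_apply, Pi.one_apply, add_sub_cancel] at this
    · refine (q.2.mem_or_mem (x := e i) (y := (1 - e) i) ?_).resolve_right h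
      rw [Pi.sub_apply, Pi.one_apply, mul_sub, mul_one, congrFun hee.eq i |>.trans rfl |> (fun t : e i * e i = e i => t),
        sub_self]
      exact q.asIdeal.zero_mem
  exact ⟨⟨hc ▸ isOpen_cut g _⟩, isOpen_cut g e⟩

theorem sub_mem_of_forall_prime {R : Type u} [CommRing R] (J : Ideal R) {x y : R}
    (hx : x * x - x ∈ J) (hy : y * y - y ∈ J)
    (h : ∀ p : PrimeSpectrum R, J ≤ p.asIdeal → (x ∈ p.asIdeal ↔ y ∈ p.asIdeal)) : x - y ∈ J := by
  rw [← Ideal.Quotient.eq]
  refine basicOpen_injOn_isIdempotentElem ?_ ?_ ?_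
  · show _ * _ = _
    rwa [← map_mul, Ideal.Quotient.eq]
  · show _ * _ = _
    rwa [← map_mul, Ideal.Quotient.eq]
  · refine TopologicalSpace.Opens.ext (Set.ext fun r => ?_)
    have := h (comap (Ideal.Quotient.mk J) r) fun z hz => by
      show Ideal.Quotient.mk J z ∈ r.asIdeal
      rw [Ideal.Quotient.eq_zero_iff_mem.2 hz]
      exact r.asIdeal.zero_mem
    exact this.not

variable [IsNoetherianRing A] [Module.Finite A C] (f : A) [HenselianRing A (Ideal.span {f})]

/-- Clopen subsets lift uniquely from the part in `V(f)`. -/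
theorem lifts_punctured {c : ℕ} (hglue : KillsGlue g (f ^ c) C) (hcob : KillsCobound g (f ^ c) C) :
    HensCouple7.Lifts (Subtype.val ⁻¹' zeroLocus {algebraMap A C f} : Set (O g C)) := by
  classical
  haveI : IsNoetherianRing C := IsNoetherianRing.of_finite A C
  haveI : ∀ i, IsNoetherianRing (L (C := C) g i) := fun i =>
    IsLocalization.isNoetherianRing (Submonoid.powers (algebraMap A C (g i))) _ inferInstance
  haveI : ∀ p, IsNoetherianRing (L₂ (C := C) g p) := fun p =>
    IsLocalization.isNoetherianRing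
      (Submonoid.powers ((algebraMap A C (g p.1)) * algebraMap A C (g p.2))) _ inferInstance
  let F : (∀ i, L (C := C) g i) := algebraMap A (∀ i, L (C := C) g i) f
  obtain ⟨d, hd⟩ := exists_idempotent_sec g f hglue
  obtain ⟨c₁, hc₁⟩ := exists_torsion_bound F
  obtain ⟨c₂, hc₂⟩ := exists_torsion_bound (algebraMap A (∀ p, L₂ (C := C) g p) f)
  obtain ⟨c₀, hc₀⟩ := exists_torsion_bound (algebraMap A C f)
  have hρf : ∀ i j, ρ₁ g i j (F i) = algebraMap A (L₂ (C := C) g (i, j)) f := fun i j => by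
    show ρ₁ g i j (algebraMap A (L (C := C) g i) f) = _
    rw [IsScalarTower.algebraMap_apply A C (L (C := C) g i), ρ₁_algebraMap, ← IsScalarTower.algebraMap_apply]
  have hρf' : ∀ i j, ρ₂ g i j (F j) = algebraMap A (L₂ (C := C) g (i, j)) f := fun i j => by
    show ρ₂ g i j (algebraMap A (L (C := C) g j) f) = _
    rw [IsScalarTower.algebraMap_apply A C (L (C := C) g j), ρ₂_algebraMap, ← IsScalarTower.algebraMap_apply]
  -- sections divisible by a high power of `f`
  have hdiv : ∀ (w : (∀ i, L (C := C) g i)) (p : ℕ), F ^ p * w ∈ sec (C := C) g → F ^ c₂ * w ∈ sec (C := C) g := by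
    intro w p hw
    let x : ∀ p, L₂ (C := C) g p := fun p => ρ₁ g p.1 p.2 (w p.1) - ρ₂ g p.1 p.2 (w p.2)
    have h0 : algebraMap A (∀ p, L₂ (C := C) g p) f ^ c₂ * x = 0 := hc₂ x p (funext fun ⟨i, j⟩ => by
      show algebraMap A (L₂ (C := C) g (i, j)) f ^ p * (ρ₁ g i j (w i) - ρ₂ g i j (w j)) = 0
      have := hw i j
      simp only [Pi.mul_apply, Pi.pow_apply, map_mul, map_pow, hρf, hρf'] at this
      rw [mul_sub, this, sub_self])
    intro i j
    have := congrFun h0 (i, j)
    simp only [Pi.mul_apply, Pi.pow_apply, map_mul, map_pow, hρf, hρf', Pi.zero_apply,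
      Pi.algebraMap_apply] at this ⊢
    rwa [mul_sub, sub_eq_zero] at this
  have hzero : ∀ e ∈ sec (C := C) g, IsIdempotentElem e → (∃ w, e = F * w) → e = 0 := by
    intro e he hee hw
    obtain ⟨w, hw⟩ := hw
    have hpow : ∀ n : ℕ, ∃ v, e = F ^ (n + 1) * v := fun n =>
      ⟨w ^ (n + 1), by rw [← mul_pow, ← hw, hee.pow_succ_eq]⟩
    have h0 : F ^ c * e = 0 := pow_mul_eq_zero_of_forall g f hglue fun n => by
      obtain ⟨v, hv⟩ := hpow (n + c₂)
      refine ⟨F ^ c₂ * (F * v), hdiv _ (n + c₂) ?_, ?_⟩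
      · rw [← mul_assoc, ← pow_succ, ← hv]; exact he
      · rw [hv]; ring
    obtain ⟨v, hv⟩ := hpow c
    calc e = e * e := hee.eq.symm
      _ = F ^ c * e * (F * v) := by conv_lhs => arg 2; rw [hv]
                                    ring
      _ = 0 := by rw [h0, zero_mul]
  have hZ : ∀ i (q : PrimeSpectrum (L (C := C) g i)),
      pt g i q ∈ (Subtype.val ⁻¹' zeroLocus {algebraMap A C f} : Set (O g C)) ↔ F i ∈ q.asIdeal := by
    intro i q
    rw [Set.mem_preimage, mem_zeroLocus, Set.singleton_subset_iff]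
    show algebraMap C (L (C := C) g i) (algebraMap A C f) ∈ q.asIdeal ↔ _
    rw [← IsScalarTower.algebraMap_apply]
    rfl
  refine HensCouple7.lifts_of_exists (fun D hD hDZ => ?_) fun V hV => ?_
  · have h := fun i => exists_idempotent_basicOpen_eq_of_isClopen (hD.preimage (continuous_pt (C := C) g i))
    choose e hee he using h
    have hesec : e ∈ sec (C := C) g := by
      intro i j
      refine basicOpen_injOn_isIdempotentElem ((hee i).map _) ((hee j).map _) ?_
      refine TopologicalSpace.Opens.ext (Set.ext fun r => ?_)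
      have h1 : pt g i (comap (ρ₁ g i j) r) ∈ D ↔ e i ∉ (comap (ρ₁ g i j) r).asIdeal := Set.ext_iff.1 (he i) _
      have h2 : pt g j (comap (ρ₂ g i j) r) ∈ D ↔ e j ∉ (comap (ρ₂ g i j) r).asIdeal := Set.ext_iff.1 (he j) _
      rw [pt_eq_pt] at h1
      exact h1.symm.trans h2
    have hmem : ∀ i, e i ∈ Ideal.span {F i} := by
      intro i
      obtain ⟨k, hk⟩ : e i ∈ (Ideal.span {F i}).radical := by
        rw [← vanishingIdeal_zeroLocus_eq_radical, mem_vanishingIdeal]
        intro q hq
        by_contra hne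
        have h1 : pt g i q ∈ D := (Set.ext_iff.1 (he i) q).2 hne
        exact Set.eq_empty_iff_forall_notMem.1 hDZ _
          ⟨h1, (hZ i q).2 (hq (Ideal.mem_span_singleton_self _))⟩
      cases k with
      | zero => rw [pow_zero] at hk; exact ((Ideal.eq_top_iff_one _).2 hk).symm ▸ trivial
      | succ k => rwa [(hee i).pow_succ_eq] at hk
    choose w hw using fun i => Ideal.mem_span_singleton'.1 (hmem i)
    have he0 : e = 0 := hzero e hesec (funext hee) ⟨w, funext fun i => by
      rw [Pi.mul_apply, mul_comm, hw]⟩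
    refine Set.eq_empty_of_forall_notMem fun z hz => ?_
    obtain ⟨i, hi⟩ := Set.mem_iUnion.1 z.2
    obtain ⟨q, rfl⟩ := exists_pt g z hi
    exact (Set.ext_iff.1 (he i) q).1 hz (by rw [he0]; exact q.asIdeal.zero_mem)
  -- almost idempotent lifts on the charts
  let p := d + c₂ + 1
  let n := p + (c + c₀)
  have hchart : ∀ i, ∃ a : L (C := C) g i, a * a - a ∈ Ideal.span {F i ^ n} ∧
      ∀ (q : PrimeSpectrum (L (C := C) g i)) (hq : F i ∈ q.asIdeal),
        a ∉ q.asIdeal ↔ (⟨pt g i q, (hZ i q).2 hq⟩ : (Subtype.val ⁻¹' zeroLocus {algebraMap A C f} : Set (O g C))) ∈ V := by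
    intro i
    let J : Ideal (L (C := C) g i) := Ideal.span {F i ^ n}
    have hJ : ∀ r : PrimeSpectrum (L (C := C) g i ⧸ J), F i ∈ (comap (Ideal.Quotient.mk J) r).asIdeal :=
      fun r => (comap (Ideal.Quotient.mk J) r).2.mem_of_pow_mem n (by
        show Ideal.Quotient.mk J (F i ^ n) ∈ r.asIdeal
        rw [Ideal.Quotient.eq_zero_iff_mem.2 (Ideal.mem_span_singleton_self _)]
        exact r.asIdeal.zero_mem)
    let φ : PrimeSpectrum (L (C := C) g i ⧸ J) →
        (Subtype.val ⁻¹' zeroLocus {algebraMap A C f} : Set (O g C)) :=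
      fun r => ⟨pt g i (comap (Ideal.Quotient.mk J) r), (hZ i _).2 (hJ r)⟩
    have hφ : Continuous φ :=
      ((continuous_pt g i).comp (PrimeSpectrum.continuous_comap _)).subtype_mk _
    obtain ⟨ε, hε, hεV⟩ := exists_idempotent_basicOpen_eq_of_isClopen (hV.preimage hφ)
    obtain ⟨a, rfl⟩ := Ideal.Quotient.mk_surjective ε
    refine ⟨a, by rw [← Ideal.Quotient.eq, map_mul]; exact hε, fun q hq => ?_⟩
    obtain ⟨r, rfl⟩ : q ∈ Set.range (comap (Ideal.Quotient.mk J)) := by
      rw [range_comap_of_surjective _ _ Ideal.Quotient.mk_surjective, Ideal.mk_ker, mem_zeroLocus]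
      exact (Ideal.span_singleton_le_iff_mem _).2 (q.asIdeal.pow_mem_of_mem hq n (by omega))
    exact (Set.ext_iff.1 hεV r).symm
  choose a ha1 ha2 using hchart
  -- differences on overlaps
  have hover : ∀ t : Fin l × Fin l, ∃ u, ρ₁ g t.1 t.2 (a t.1) - ρ₂ g t.1 t.2 (a t.2) =
      algebraMap A (L₂ (C := C) g t) f ^ n * u := by
    rintro ⟨i, j⟩
    have key := sub_mem_of_forall_prime (Ideal.span {algebraMap A (L₂ (C := C) g (i, j)) f ^ n})
      (x := ρ₁ g i j (a i)) (y := ρ₂ g i j (a j)) ?_ ?_ ?_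
    · obtain ⟨u, hu⟩ := Ideal.mem_span_singleton'.1 key
      exact ⟨u, hu.symm.trans (mul_comm _ _)⟩
    · obtain ⟨v, hv⟩ := Ideal.mem_span_singleton'.1 (ha1 i)
      exact Ideal.mem_span_singleton'.2 ⟨ρ₁ g i j v, by
        simpa only [map_mul, map_sub, map_pow, hρf] using congrArg (ρ₁ g i j) hv⟩
    · obtain ⟨v, hv⟩ := Ideal.mem_span_singleton'.1 (ha1 j)
      exact Ideal.mem_span_singleton'.2 ⟨ρ₂ g i j v, by
        simpa only [map_mul, map_sub, map_pow, hρf'] using congrArg (ρ₂ g i j) hv⟩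
    · intro r hr
      have hfr := r.2.mem_of_pow_mem n (hr (Ideal.mem_span_singleton_self _))
      have h1 : F i ∈ (comap (ρ₁ g i j) r).asIdeal := by
        show ρ₁ g i j (F i) ∈ r.asIdeal
        rw [hρf]; exact hfr
      have h2 : F j ∈ (comap (ρ₂ g i j) r).asIdeal := by
        show ρ₂ g i j (F j) ∈ r.asIdeal
        rw [hρf']; exact hfr
      refine not_iff_not.1 ((ha2 i _ h1).trans (Iff.trans (iff_of_eq ?_) (ha2 j _ h2).symm))
      exact congrArg (· ∈ V) (Subtype.ext (pt_eq_pt g r))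
  choose u hu using hover
  have hsurj := fun t : Fin l × Fin l =>
    IsLocalization.Away.surj ((algebraMap A C (g t.1)) * algebraMap A C (g t.2)) (u t)
  choose k z' hz' using hsurj
  obtain ⟨N₀, hN₀⟩ := exists_frac_ge g a
  let N := max N₀ (Finset.univ.sup k)
  obtain ⟨a', ha'⟩ := hN₀ N (le_max_left _ _)
  let z : Fin l → Fin l → C := fun i j =>
    ((algebraMap A C (g i)) * algebraMap A C (g j)) ^ (N - k (i, j)) * z' (i, j)
  have hz : ∀ i j, u (i, j) * algebraMap C (L₂ (C := C) g (i, j))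
      ((algebraMap A C (g i)) * algebraMap A C (g j)) ^ N = algebraMap C _ (z i j) := by
    intro i j
    obtain ⟨r, hr⟩ := Nat.exists_eq_add_of_le'
      ((Finset.le_sup (f := k) (Finset.mem_univ (i, j))).trans (le_max_right N₀ _) : k (i, j) ≤ N)
    show _ = algebraMap C _ (_ ^ (N - k (i, j)) * z' (i, j))
    have e : u (i, j) * algebraMap C (L₂ (C := C) g (i, j))
        ((algebraMap A C (g i)) * algebraMap A C (g j)) ^ k (i, j) = algebraMap C _ (z' (i, j)) := hz' (i, j)
    rw [hr, Nat.add_sub_cancel]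
    simp only [map_mul, map_pow] at e ⊢
    linear_combination (algebraMap C (L₂ (C := C) g (i, j)) (algebraMap A C (g i)) *
      algebraMap C (L₂ (C := C) g (i, j)) (algebraMap A C (g j))) ^ r * e
  have hC : ∀ t : Fin l × Fin l, ∃ P : ℕ, ((algebraMap A C (g t.1)) * algebraMap A C (g t.2)) ^ P *
      (algebraMap A C (g t.2) ^ N * a' t.1 - algebraMap A C (g t.1) ^ N * a' t.2) =
      ((algebraMap A C (g t.1)) * algebraMap A C (g t.2)) ^ P * (algebraMap A C f ^ n * z t.1 t.2) := by
    rintro ⟨i, j⟩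
    have e0 := hu (i, j)
    have e1 := congrArg (ρ₁ g i j) (frac_spec g N a' i)
    have e2 := congrArg (ρ₂ g i j) (frac_spec g N a' j)
    rw [← ha', map_mul, map_pow, ρ₁_algebraMap, ρ₁_algebraMap] at e1
    rw [← ha', map_mul, map_pow, ρ₂_algebraMap, ρ₂_algebraMap] at e2
    have e4 := hz i j
    rw [map_mul] at e4
    have e3 : algebraMap C (L₂ (C := C) g (i, j))
        (algebraMap A C (g j) ^ N * a' i - algebraMap A C (g i) ^ N * a' j) =
        algebraMap C _ (algebraMap A C f ^ n * z i j) := by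
      simp only [map_sub, map_mul, map_pow, ← IsScalarTower.algebraMap_apply A C (L₂ (C := C) g (i, j))] at e1 e2 e4 ⊢
      linear_combination (algebraMap A (L₂ (C := C) g (i, j)) (g i) ^ N * algebraMap A _ (g j) ^ N) * e0
        - algebraMap A (L₂ (C := C) g (i, j)) (g j) ^ N * e1
        + algebraMap A (L₂ (C := C) g (i, j)) (g i) ^ N * e2
        + algebraMap A (L₂ (C := C) g (i, j)) f ^ n * e4
    obtain ⟨⟨_, P, rfl⟩, hP⟩ := (IsLocalization.eq_iff_exists
      (Submonoid.powers ((algebraMap A C (g i)) * algebraMap A C (g j))) _).1 e3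
    exact ⟨P, hP⟩
  obtain ⟨P, hP⟩ : ∃ P : ℕ, ∀ i j, ((algebraMap A C (g i)) * algebraMap A C (g j)) ^ P *
      (algebraMap A C (g j) ^ N * a' i - algebraMap A C (g i) ^ N * a' j) =
      ((algebraMap A C (g i)) * algebraMap A C (g j)) ^ P * (algebraMap A C f ^ n * z i j) := by
    choose P hP using hC
    refine ⟨Finset.univ.sup P, fun i j => ?_⟩
    obtain ⟨r, hr⟩ := Nat.exists_eq_add_of_le' (Finset.le_sup (f := P) (Finset.mem_univ (i, j)))
    rw [hr, pow_add, mul_assoc, hP (i, j), mul_assoc]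
  have hcoc : Cocyc g N (fun i j => algebraMap A C f ^ c₀ * z i j) := by
    refine ⟨P, fun i j k => ?_⟩
    simp only [Algebra.smul_def, map_mul, map_pow]
    let G := algebraMap A C (g i) * algebraMap A C (g j) * algebraMap A C (g k)
    have h0 := hc₀ (G ^ P * (algebraMap A C (g k) ^ N * z i j + algebraMap A C (g i) ^ N * z j k -
        algebraMap A C (g j) ^ N * z i k)) n (by
      simp only [G]
      linear_combination -(algebraMap A C (g k) ^ P * algebraMap A C (g k) ^ N) * hP i j
        - (algebraMap A C (g i) ^ P * algebraMap A C (g i) ^ N) * hP j k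
        + (algebraMap A C (g j) ^ P * algebraMap A C (g j) ^ N) * hP i k)
    linear_combination h0
  obtain ⟨N', b, P', hP'⟩ := hcob N _ hcoc
  let β := frac g N' b
  have hβ : ∀ i j, algebraMap A (L₂ (C := C) g (i, j)) f ^ (c + c₀) * u (i, j) =
      ρ₁ g i j (β i) - ρ₂ g i j (β j) := by
    intro i j
    have e1 := congrArg (ρ₁ g i j) (frac_spec g N' b i)
    have e2 := congrArg (ρ₂ g i j) (frac_spec g N' b j)
    rw [map_mul, map_pow, ρ₁_algebraMap, ρ₁_algebraMap] at e1
    rw [map_mul, map_pow, ρ₂_algebraMap, ρ₂_algebraMap] at e2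
    have e3 := congrArg (algebraMap C (L₂ (C := C) g (i, j))) (hP' i j)
    have e4 := hz i j
    refine (((isUnit_fst g i j).mul (isUnit_snd g i j)).pow (P' + N + N')).mul_right_cancel ?_
    simp only [Pi.smul_apply, Algebra.smul_def, map_mul, map_pow, map_sub,
      ← IsScalarTower.algebraMap_apply A C (L₂ (C := C) g (i, j))] at e1 e2 e3 e4 ⊢
    linear_combination e3
      + (algebraMap A (L₂ (C := C) g (i, j)) (g i) * algebraMap A _ (g j)) ^ (P' + N') *
          algebraMap A (L₂ (C := C) g (i, j)) f ^ (c + c₀) * e4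
      - (algebraMap A (L₂ (C := C) g (i, j)) (g i) * algebraMap A _ (g j)) ^ (P' + N) *
          algebraMap A (L₂ (C := C) g (i, j)) (g j) ^ N' * e1
      + (algebraMap A (L₂ (C := C) g (i, j)) (g i) * algebraMap A _ (g j)) ^ (P' + N) *
          algebraMap A (L₂ (C := C) g (i, j)) (g i) ^ N' * e2
  let x : (∀ i, L (C := C) g i) := a - F ^ p * β
  have hx : x ∈ sec (C := C) g := by
    intro i j
    simp only [x, Pi.sub_apply, Pi.mul_apply, Pi.pow_apply, map_sub, map_mul, map_pow, hρf, hρf']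
    have e0 := hu (i, j)
    simp only [n, pow_add] at e0
    have e5 := hβ i j
    rw [pow_add] at e5
    linear_combination e0 + algebraMap A (L₂ (C := C) g (i, j)) f ^ p * e5
  choose v hv using fun i => Ideal.mem_span_singleton'.1 (ha1 i)
  let w : (∀ i, L (C := C) g i) := F ^ (c + c₀) * v - 2 * a * β + F ^ p * β * β + β
  have hxw : x * x - x = F ^ p * w := by
    have hav : a * a - a = F ^ n * v := funext fun i => by
      simp only [Pi.sub_apply, Pi.mul_apply, Pi.pow_apply, ← hv i, mul_comm]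
    simp only [x, w]
    simp only [n, pow_add] at hav
    linear_combination hav
  have hwsec : F ^ c₂ * w ∈ sec (C := C) g :=
    hdiv w p (hxw ▸ sub_mem (mul_mem hx hx) hx)
  obtain ⟨e, he, hee, w', hew⟩ := hd x hx (d + 1) (by omega) (by omega)
    ⟨_, hwsec, by rw [hxw, ← mul_assoc, ← pow_add]; congr 2; omega⟩
  refine ⟨cut g e, isClopen_cut g he hee, Set.ext fun y => ?_⟩
  obtain ⟨⟨y, hyO⟩, hyZ⟩ := y
  obtain ⟨i, hi⟩ := Set.mem_iUnion.1 hyO
  obtain ⟨q, hq⟩ := exists_pt g ⟨y, hyO⟩ hi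
  have hFq : F i ∈ q.asIdeal := (hZ i q).1 (hq ▸ hyZ)
  have hy : (⟨⟨y, hyO⟩, hyZ⟩ : (Subtype.val ⁻¹' zeroLocus {algebraMap A C f} : Set (O g C))) =
      ⟨pt g i q, (hZ i q).2 hFq⟩ := Subtype.ext hq.symm
  rw [hy, ← ha2 i q hFq, Set.mem_preimage, pt_mem_cut_iff g he]
  have key : e i - a i ∈ q.asIdeal := by
    have h1 : e i - a i = F i ^ (d + 1) * w' i - F i ^ p * β i := by
      have h2 := congrFun hew i
      simp only [x, Pi.sub_apply, Pi.mul_apply, Pi.pow_apply] at h2
      linear_combination h2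
    rw [h1]
    exact q.asIdeal.sub_mem (q.asIdeal.mul_mem_right _ (q.asIdeal.pow_mem_of_mem hFq _ (by omega)))
      (q.asIdeal.mul_mem_right _ (q.asIdeal.pow_mem_of_mem hFq _ (by omega)))
  refine not_congr ⟨fun h => ?_, fun h => ?_⟩
  · simpa using q.asIdeal.sub_mem h key
  · simpa using q.asIdeal.add_mem h key

end Groth.Agent.P1Punct
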