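import Groth.Agent.DualityLC.Localize
import Groth.Agent.DualityLC.GorShift
import Groth.Agent.S1713
import Groth.Agent.FlatLoc6.SerreNormal
import Groth.Agent.LC.ExtDim
import Groth.Agent.Alg6.LocLoc

/-!
With a dualizing complex: a power of `f` kills `H¹` and `H²` with supports in the closed point as
soon as depth plus dimension exceeds two off `V(f)`.
-/

universe u

open CategoryTheory CategoryTheory.Limits IsLocalRing

attribute [local instance] HasDerivedCategory.standard

set_option linter.style.haveILetI false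

namespace Groth.Agent.P1Punct

variable (A : Type u) [CommRing A] [IsNoetherianRing A] [IsLocalRing A]

/-- Depth plus dimension exceeds two at every prime not containing `f`. -/
def DepthDim (f : A) : Prop :=
  ∀ p : Ideal A, ∀ _ : p.IsPrime, f ∉ p →
    (2 : WithBot ℕ∞) < (LocCoh.depth (Localization.AtPrime p) (Localization.AtPrime p) : WithBot ℕ∞) + ringKrullDim (A ⧸ p)

variable {A}

set_option backward.isDefEq.respectTransparency false in
theorem exists_pow_kills_H {ω : Dual.D A} (hω : Dual.IsDualizing A ω) (f : A) (hc : DepthDim A f) (i : ℕ) (hi : i ≤ 2) :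
    ∃ n : ℕ, ∀ x : LocCoh.H (maximalIdeal A) i A, f ^ n • x = 0 := by
  obtain ⟨e, hN⟩ := DualityLC.exists_normalized_shift hω
  have hD := KFlatLib.isDualizing_shift hω e
  obtain ⟨n, hn, -, -, -, hdim⟩ := KFlatLib.exists_normalized_degree hD hN
  haveI := DualityLC.finite_hom_shift hD (hN := hN) (Dual.inD A A) (DualityLC.finite_hd_inD A) (-(i : ℤ))
  let N := (Dual.inD A A ⟶ (ω⟦e⟧)⟦(-(i : ℤ))⟧)
  have hrad : f ∈ (Module.annihilator A N).radical := by
    rw [Ideal.radical_eq_sInf, Ideal.mem_sInf]
    rintro P ⟨hP, hPp⟩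
    by_contra hfP
    have hsupp : (⟨P, hPp⟩ : PrimeSpectrum A) ∈ Module.support A N := by
      rw [Module.support_eq_zeroLocus]; exact hP
    haveI := hPp
    haveI : Nontrivial (LocalizedModule P.primeCompl A) :=
      (LC.selfLoc P.primeCompl).toEquiv.nontrivial
    obtain ⟨k, hk⟩ := LC.exists_depth_eq_nat (R := Localization.AtPrime P) (M := LocalizedModule P.primeCompl A)
    obtain ⟨d, hd⟩ : ∃ d : ℕ, Module.supportDim (Localization.AtPrime P) (LocalizedModule P.primeCompl A) = d := by
      rw [FlatLoc6.supportDim_self_atPrime]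
      exact ⟨_, (congrArg WithBot.some (ENat.coe_toNat (Ideal.height_lt_top (Ideal.IsPrime.ne_top hPp)).ne)).symm⟩
    have h1 := ((DualityLC.ext_range_at hD hn ⟨P, hPp⟩ A (Module.mem_support_iff.2 ‹_›) k d hk hd).1
      (-(i : ℤ)) (Module.mem_support_iff.1 hsupp)).2
    obtain ⟨e', he', he''⟩ := hdim ⟨P, hPp⟩
    have h2 := hc P hPp hfP
    rw [← FlatLoc6.depth_self_atPrime, hk, he'] at h2
    have h2' : ((2 : ℕ) : WithBot ℕ∞) < ((k + e' : ℕ) : WithBot ℕ∞) := by push_cast; exact h2
    have h3 : 2 < k + e' := Nat.cast_lt.1 h2'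
    omega
  obtain ⟨m, hm⟩ := hrad
  refine ⟨m, fun x => ?_⟩
  rw [Groth.Agent.S1713.result A (ω⟦e⟧) hD hN A i] at hm
  exact Module.mem_annihilator.1 hm x

theorem depth_comap (f : A) (Q : Ideal (Localization.Away f)) [Q.IsPrime] (P : Ideal A) [P.IsPrime]
    (hQ : Q.comap (algebraMap A (Localization.Away f)) = P) :
    LocCoh.depth (Localization.AtPrime P) (Localization.AtPrime P) =
      LocCoh.depth (Localization.AtPrime Q) (Localization.AtPrime Q) := by
  subst hQ
  let σ := (IsLocalization.localizationLocalizationAtPrimeIsoLocalization (Submonoid.powers f) Q).toRingEquiv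
  exact Alg6.depth_eq_of_semilinear σ.toRingHom σ.surjective σ.toAddEquiv fun r x => map_mul σ r x

set_option backward.isDefEq.respectTransparency false in
/-- `(S₂)` off `V(f)` and components of dimension at least three give depth plus dimension above two. -/
theorem depthDim_of_hasSk {ω : Dual.D A} (hω : Dual.IsDualizing A ω) (f : A) (hf : f ∈ maximalIdeal A)
    (hS : LocCoh.HasSk 2 (Localization.Away f) (Localization.Away f))
    (h3 : ∀ p : Ideal A, p ∈ minimalPrimes A → f ∉ p → (3 : WithBot ℕ∞) ≤ ringKrullDim (A ⧸ p)) :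
    DepthDim A f := by
  obtain ⟨e, hN⟩ := DualityLC.exists_normalized_shift hω
  have hD := KFlatLib.isDualizing_shift hω e
  obtain ⟨n, hn, hcov, hmono, -⟩ := KFlatLib.exists_extDegree hD
  have hdim := fun P => KFlatLib.ringKrullDim_quotient_eq hcov hmono P
  intro P hP hfP
  -- the localization of `A_f` at `P`
  let Q : Ideal (Localization.Away f) := P.map (algebraMap A _)
  have hdisj : Disjoint (Submonoid.powers f : Set A) (P : Set A) :=
    (Ideal.disjoint_powers_iff_notMem f hP.isRadical).2 hfP
  haveI : Q.IsPrime := IsLocalization.isPrime_of_isPrime_disjoint (Submonoid.powers f) _ P hP hdisj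
  have hQ : Q.comap (algebraMap A (Localization.Away f)) = P :=
    IsLocalization.comap_map_of_isPrime_disjoint (Submonoid.powers f) _ hP hdisj
  have hd := (FlatLoc6.hasSk_self_iff 2).1 hS Q
  rw [← depth_comap f Q P hQ, ← IsLocalization.height_under (Submonoid.powers f) Q,
    show Q.under A = P from hQ] at hd
  obtain ⟨dP, hdP, hdP'⟩ := hdim ⟨P, hP⟩
  obtain ⟨h, hh⟩ : ∃ h : ℕ, P.height = h :=
    ⟨_, (ENat.coe_toNat (Ideal.height_lt_top hP.ne_top).ne).symm⟩
  rw [hdP]
  obtain ⟨p, hp, hpP⟩ := Ideal.exists_minimalPrimes_le (bot_le : (⊥ : Ideal A) ≤ P)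
  haveI hpp : p.IsPrime := hp.1.1
  obtain ⟨dp, hdp, hdp'⟩ := hdim ⟨p, hpp⟩
  have h3p : 3 ≤ dp := by
    have := h3 p hp fun hfp => hfP (hpP hfp)
    rw [hdp] at this
    exact_mod_cast this
  rw [hh] at hd
  generalize LocCoh.depth (Localization.AtPrime P) (Localization.AtPrime P) = D at hd ⊢
  cases D with
  | top => exact WithBot.coe_lt_coe.2 (WithTop.coe_lt_top _)
  | coe D =>
    have hd' : min 2 h ≤ D := Nat.cast_le.1 (show ((min 2 h : ℕ) : ℕ∞) ≤ (D : ℕ∞) by push_cast; exact hd)
    suffices h' : 2 < D + dP by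
      have h'' : ((2 : ℕ) : WithBot ℕ∞) < ((D + dP : ℕ) : WithBot ℕ∞) := Nat.cast_lt.2 h'
      push_cast at h''
      exact h''
    rcases eq_or_ne p P with rfl | hne
    · have : dp = dP := by omega
      omega
    have hlt : (⟨p, hpp⟩ : PrimeSpectrum A) < ⟨P, hP⟩ := lt_of_le_of_ne hpP fun he =>
      hne (congrArg PrimeSpectrum.asIdeal he)
    have h1 : 1 ≤ h := by
      have := Ideal.height_strict_mono_of_isPrime (lt_of_le_of_ne hpP hne)
      rw [hh] at this
      exact Nat.one_le_iff_ne_zero.2 fun h0 => by simp [h0] at this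
    rcases le_or_gt 2 h with h2 | h2
    · have hPm : (⟨P, hP⟩ : PrimeSpectrum A) < IsLocalRing.closedPoint A :=
        lt_of_le_of_ne (le_maximalIdeal hP.ne_top) fun he => hfP (by
          have := congrArg PrimeSpectrum.asIdeal he
          rw [show P = maximalIdeal A from this]; exact hf)
      have := hmono hPm
      omega
    · have hcv : (⟨p, hpp⟩ : PrimeSpectrum A) ⋖ ⟨P, hP⟩ := by
        refine ⟨hlt, fun r hr hr' => ?_⟩
        have e1 := Ideal.height_strict_mono_of_isPrime (I := p) (J := r.asIdeal) hr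
        have e2 := Ideal.height_strict_mono_of_isPrime (I := r.asIdeal) (J := P) hr'
        rw [hh] at e2
        have : r.asIdeal.height < 1 := lt_of_lt_of_le e2 (by exact_mod_cast (show h ≤ 1 by omega))
        rw [ENat.lt_one_iff_eq_zero] at this
        simp [this] at e1
      have := hcov _ _ hcv
      omega

end Groth.Agent.P1Punct
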