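import Groth.Agent.LC.CohAcyclic
import Groth.Agent.LC.InjBasic
import Mathlib.RingTheory.Filtration
import Mathlib.Algebra.Category.ModuleCat.Injective

/-!
Sections over the complement of `V(I)` in elementary form, and the meaning of local cohomology in
degrees one and two for them.
-/

universe u

open CategoryTheory

set_option linter.style.haveILetI false

namespace Groth.Agent.P1Punct

variable {R : Type u} [CommRing R] {l : ℕ} (g : Fin l → R)

section Defs

variable {M : Type u} [AddCommGroup M] [Module R M]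

/-- The fractions `a i / g i ^ N` agree on overlaps. -/
def Compat (N : ℕ) (a : Fin l → M) : Prop :=
  ∃ P : ℕ, ∀ i j, (g i * g j) ^ P • g j ^ N • a i = (g i * g j) ^ P • g i ^ N • a j

/-- The fractions `a i / g i ^ N` come from `m`. -/
def Glues (N : ℕ) (a : Fin l → M) (m : M) : Prop :=
  ∃ P : ℕ, ∀ i, g i ^ (P + N) • m = g i ^ P • a i

/-- The fractions `y i j / (g i * g j) ^ N` form a cocycle. -/
def Cocyc (N : ℕ) (y : Fin l → Fin l → M) : Prop :=
  ∃ P : ℕ, ∀ i j k, (g i * g j * g k) ^ P • (g k ^ N • y i j + g i ^ N • y j k - g j ^ N • y i k) = 0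

/-- The fractions `y i j / (g i * g j) ^ N` are the differences of `a i / g i ^ N'`. -/
def Cobound (N : ℕ) (y : Fin l → Fin l → M) (N' : ℕ) (a : Fin l → M) : Prop :=
  ∃ P : ℕ, ∀ i j, (g i * g j) ^ P • (g i * g j) ^ N' • y i j =
    (g i * g j) ^ P • (g i * g j) ^ N • (g j ^ N' • a i - g i ^ N' • a j)

end Defs

/-- Every compatible family, multiplied by `c`, comes from a global element. -/
def KillsGlue (c : R) (M : Type u) [AddCommGroup M] [Module R M] : Prop :=
  ∀ (N : ℕ) (a : Fin l → M), Compat g N a → ∃ m, Glues g N (c • a) m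

/-- Every cocycle, multiplied by `c`, is a coboundary. -/
def KillsCobound (c : R) (M : Type u) [AddCommGroup M] [Module R M] : Prop :=
  ∀ (N : ℕ) (y : Fin l → Fin l → M), Cocyc g N y → ∃ N' a, Cobound g N (c • y) N' a

variable {M : Type u} [AddCommGroup M] [Module R M] {M' : Type u} [AddCommGroup M'] [Module R M']

theorem compat_map (φ : M →ₗ[R] M') {N : ℕ} {a : Fin l → M} (h : Compat g N a) :
    Compat g N (fun i => φ (a i)) := by
  obtain ⟨P, hP⟩ := h
  exact ⟨P, fun i j => by simpa only [map_smul] using congrArg φ (hP i j)⟩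

theorem cocyc_map (φ : M →ₗ[R] M') {N : ℕ} {y : Fin l → Fin l → M} (h : Cocyc g N y) :
    Cocyc g N (fun i j => φ (y i j)) := by
  obtain ⟨P, hP⟩ := h
  exact ⟨P, fun i j k => by simpa only [map_smul, map_add, map_sub, map_zero] using congrArg φ (hP i j k)⟩

theorem killsGlue_retract {c e : R} (s : M →ₗ[R] M') (π : M' →ₗ[R] M) (hπ : ∀ m, π (s m) = e • m)
    (h : KillsGlue g c M') : KillsGlue g (c * e) M := by
  intro N a ha
  obtain ⟨m, P, hP⟩ := h N _ (compat_map g s ha)
  refine ⟨π m, P, fun i => ?_⟩
  simpa only [map_smul, Pi.smul_apply, hπ, mul_smul] using congrArg π (hP i)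

theorem killsCobound_retract {c e : R} (s : M →ₗ[R] M') (π : M' →ₗ[R] M) (hπ : ∀ m, π (s m) = e • m)
    (h : KillsCobound g c M') : KillsCobound g (c * e) M := by
  intro N y hy
  obtain ⟨N', a, P, hP⟩ := h N _ (cocyc_map g s hy)
  refine ⟨N', fun i => π (a i), P, fun i j => ?_⟩
  simpa only [map_smul, map_sub, Pi.smul_apply, hπ, mul_smul] using congrArg π (hP i j)

theorem exists_bound {d : ℕ} {p : Fin d → ℕ → Prop} (hmono : ∀ t P Q, P ≤ Q → p t P → p t Q)
    (h : ∀ t, ∃ P, p t P) : ∃ P, ∀ t, p t P := by
  choose P hP using h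
  exact ⟨Finset.univ.sup P, fun t => hmono t _ _ (Finset.le_sup (Finset.mem_univ t)) (hP t)⟩

theorem killsGlue_pi {c : R} (h : KillsGlue g c M) (d : ℕ) : KillsGlue g c (Fin d → M) := by
  intro N a ha
  choose m hm using fun t => h N (fun i => a i t) (compat_map g (LinearMap.proj t) ha)
  obtain ⟨P, hP⟩ := exists_bound (p := fun t P => ∀ i, g i ^ (P + N) • m t = g i ^ P • (c • fun i => a i t) i)
    (fun t P Q hPQ hp i => by
      obtain ⟨k, rfl⟩ := Nat.exists_eq_add_of_le' hPQ
      rw [add_assoc, pow_add, mul_smul, hp i, pow_add, mul_smul]) hm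
  exact ⟨m, P, fun i => funext fun t => hP t i⟩

theorem killsCobound_pi {c : R} (h : KillsCobound g c M) (d : ℕ) : KillsCobound g c (Fin d → M) := by
  intro N y hy
  choose N' a ha using fun t => h N (fun i j => y i j t) (cocyc_map g (LinearMap.proj t) hy)
  let K := Finset.univ.sup N'
  have hK : ∀ t, N' t ≤ K := fun t => Finset.le_sup (Finset.mem_univ t)
  obtain ⟨P, hP⟩ := exists_bound (p := fun t P => ∀ i j, (g i * g j) ^ P • (g i * g j) ^ K • (c • y i j t) =
      (g i * g j) ^ P • (g i * g j) ^ N • (g j ^ K • g i ^ (K - N' t) • a t i - g i ^ K • g j ^ (K - N' t) • a t j))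
    (fun t P Q hPQ hp i j => by
      obtain ⟨k, rfl⟩ := Nat.exists_eq_add_of_le' hPQ
      rw [pow_add, mul_smul, hp i j, mul_smul]) fun t => by
        obtain ⟨P, hP⟩ := ha t
        refine ⟨P, fun i j => ?_⟩
        have h1 := congrArg ((g i * g j) ^ (K - N' t) • ·) (hP i j)
        simp only [Pi.smul_apply] at h1
        obtain ⟨r, hr⟩ := Nat.exists_eq_add_of_le (hK t)
        rw [hr, Nat.add_sub_cancel_left] at h1 ⊢
        simp only [smul_sub, smul_smul] at h1 ⊢
        convert h1 using 2 <;> ring_nf
  exact ⟨K, fun i t => g i ^ (K - N' t) • a t i, P, fun i j => funext fun t => hP t i j⟩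

section Injective

variable [IsNoetherianRing R]

/-- A compatible family in an injective module comes from one element. -/
theorem exists_glues_of_injective [Module.Injective R M] {N : ℕ} {a : Fin l → M} (h : Compat g N a) :
    ∃ m, Glues g N a m := by
  obtain ⟨P₀, hP₀⟩ := h
  let L : ℕ → ((Fin l → R) →ₗ[R] R) := fun e => Fintype.linearCombination R fun i => g i ^ e
  let T : ℕ → ((Fin l → R) →ₗ[R] M) := fun P => Fintype.linearCombination R fun i => g i ^ P • a i
  let Q := P₀ + N
  let K := LinearMap.ker (L Q)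
  let J : Ideal R := Ideal.span (Set.range fun i => g i ^ Q)
  have hkill : ∀ r ∈ K, ∀ s ∈ J, s • T P₀ r = 0 := by
    intro r hr s hs
    rw [← LinearMap.map_smul]
    refine Submodule.span_induction ?_ ?_ ?_ ?_ hs
    · rintro _ ⟨j, rfl⟩
      have e : ∀ i, g j ^ Q • g i ^ P₀ • a i = g i ^ Q • g j ^ P₀ • a j := fun i => by
        have := hP₀ i j
        simp only [smul_smul] at this ⊢
        convert this using 2 <;> (simp only [Q]; ring)
      have hr' : ∑ i, r i * g i ^ Q = 0 := by
        simpa [K, L, Fintype.linearCombination_apply] using hr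
      simp only [T, Fintype.linearCombination_apply, Pi.smul_apply, smul_eq_mul, mul_comm (g j ^ Q),
        mul_smul, e]
      simp only [← mul_smul, ← Finset.sum_smul, ← mul_assoc, ← Finset.sum_mul, hr', zero_mul, zero_smul]
    · rw [zero_smul, map_zero]
    · intro u v _ _ hu hv; rw [add_smul, map_add, hu, hv, add_zero]
    · intro s u _ hu; rw [smul_eq_mul, mul_smul, map_smul, hu, smul_zero]
  obtain ⟨k, hk⟩ := J.exists_pow_inf_eq_pow_smul K
  let e := Q * (k + 1)
  have hker : LinearMap.ker (L (e + Q)) ≤ LinearMap.ker (T (e + P₀)) := by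
    intro r hr
    let r' : Fin l → R := fun i => r i * g i ^ e
    have h1 : r' ∈ K := by
      simpa [K, L, r', Fintype.linearCombination_apply, pow_add, mul_assoc] using hr
    have h2 : r' ∈ (J ^ (k + 1) • ⊤ : Submodule R (Fin l → R)) := by
      rw [show r' = ∑ i, (g i ^ e) • (Pi.single i (r i) : Fin l → R) from funext fun j => by
        simp [r', Finset.sum_apply, Pi.single_apply, mul_comm]]
      refine Submodule.sum_mem _ fun i _ => Submodule.smul_mem_smul ?_ trivial
      simp only [e, pow_mul]
      exact Ideal.pow_mem_pow (Ideal.subset_span (Set.mem_range_self i)) _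
    have h3 : r' ∈ J ^ (k + 1 - k) • (J ^ k • ⊤ ⊓ K) := hk (k + 1) k.le_succ ▸ ⟨h2, h1⟩
    rw [Nat.add_sub_cancel_left, pow_one] at h3
    have h4 : T P₀ r' = 0 := by
      refine Submodule.smul_induction_on (p := fun z => T P₀ z = 0) h3 (fun s hs z hz => ?_)
        fun u v hu hv => ?_
      · rw [map_smul]; exact hkill z hz.2 s hs
      · rw [map_add, hu, hv, add_zero]
    rw [LinearMap.mem_ker]
    simpa [T, r', Fintype.linearCombination_apply, pow_add, mul_smul] using h4
  let φ : LinearMap.range (L (e + Q)) →ₗ[R] M :=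
    (Submodule.liftQ _ (T (e + P₀)) hker).comp (L (e + Q)).quotKerEquivRange.symm.toLinearMap
  obtain ⟨ψ, hψ⟩ := Module.Injective.out (Submodule.subtype _) (Submodule.subtype_injective _) φ
  refine ⟨ψ 1, e + P₀, fun i => ?_⟩
  have hi : L (e + Q) (Pi.single i 1) = g i ^ (e + Q) := by
    simp [L, Fintype.linearCombination_apply_single]
  have h5 : ψ (L (e + Q) (Pi.single i 1)) = T (e + P₀) (Pi.single i 1) :=
    (hψ ⟨_, LinearMap.mem_range_self _ _⟩).trans (by
      show Submodule.liftQ _ _ hker ((L (e + Q)).quotKerEquivRange.symm ⟨_, _⟩) = _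
      rw [LinearMap.quotKerEquivRange_symm_apply_image, Submodule.mkQ_apply, Submodule.liftQ_apply])
  rw [hi] at h5
  rw [← map_smul, smul_eq_mul, mul_one, show e + P₀ + N = e + Q by simp only [Q]; ring, h5]
  simp [T, Fintype.linearCombination_apply_single]

end Injective

section Kills

variable [IsNoetherianRing R] (I : Ideal R) (hI : I = Ideal.span (Set.range g))

include hI

/-- An element killing `H¹_I` glues compatible families. -/
theorem killsGlue_of_H {c : R} (hc : ∀ z : (localCohomology I 1).obj (ModuleCat.of R M), c • z = 0) :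
    KillsGlue g c M := by
  intro N a ha
  obtain ⟨J, _, _, _, f, hf⟩ := LC.exists_injective_embedding R M
  obtain ⟨x, P, hP⟩ := exists_glues_of_injective g (compat_map g f ha)
  have hS : (ShortComplex.mk (ModuleCat.ofHom f) (ModuleCat.ofHom (LinearMap.range f).mkQ)
      (ModuleCat.hom_ext (LinearMap.range_mkQ_comp f))).ShortExact :=
    { exact := (ShortComplex.ShortExact.moduleCat_exact_iff_function_exact _).2 fun y =>
        LinearMap.exact_map_mkQ_range f y
      mono_f := (ModuleCat.mono_iff_injective _).2 hf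
      epi_g := (ModuleCat.epi_iff_surjective _).2 (Submodule.mkQ_surjective _) }
  obtain ⟨k, hk⟩ := Ideal.exists_pow_le_of_le_radical_of_fg (I := I)
    (J := Ideal.span (Set.range fun i => g i ^ (P + N))) (by
      rw [hI, Ideal.span_le]
      rintro _ ⟨i, rfl⟩
      exact ⟨P + N, Ideal.subset_span (Set.mem_range_self i)⟩) (IsNoetherian.noetherian I)
  have hq : (LinearMap.range f).mkQ x ∈ DRing.torsionSub I (J ⧸ LinearMap.range f) := by
    refine ⟨k, fun r hr => ?_⟩
    rw [← map_smul, Submodule.mkQ_apply, Submodule.Quotient.mk_eq_zero]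
    refine Submodule.span_induction ?_ ?_ ?_ ?_ (hk hr)
    · rintro _ ⟨i, rfl⟩
      exact ⟨g i ^ P • a i, by rw [map_smul]; exact (hP i).symm⟩
    · rw [zero_smul]; exact zero_mem _
    · intro u v _ _ hu hv; rw [add_smul]; exact add_mem hu hv
    · intro s u _ hu; rw [smul_eq_mul, mul_smul]; exact Submodule.smul_mem _ s hu
  have h0 : LC.coker₁ I hS (c • ⟨_, hq⟩) = 0 := by rw [map_smul]; exact hc _
  obtain ⟨z, ⟨n, hn⟩, hzq⟩ := (LC.coker₁_eq_zero_iff I hS _).1 h0
  obtain ⟨m, hm⟩ : c • x - z ∈ LinearMap.range f := by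
    rw [← Submodule.Quotient.mk_eq_zero, Submodule.Quotient.mk_sub, sub_eq_zero]
    exact hzq.symm
  refine ⟨m, n + P, fun i => hf ?_⟩
  have hz : g i ^ n • z = 0 :=
    hn _ (Ideal.pow_mem_pow (hI ▸ Ideal.subset_span (Set.mem_range_self i)) n)
  have hPi := hP i
  simp only [map_smul, hm, Pi.smul_apply] at hPi ⊢
  linear_combination (norm := (match_scalars <;> ring)) (c * g i ^ n) • hPi - (g i ^ (P + N)) • hz

/-- An element killing `H²_I` makes cocycles coboundaries. -/
theorem killsCobound_of_H {c : R} (hc : ∀ z : (localCohomology I 2).obj (ModuleCat.of R M), c • z = 0) :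
    KillsCobound g c M := by
  intro N y hy
  obtain ⟨J, _, _, _, f, hf⟩ := LC.exists_injective_embedding R M
  haveI : Injective (ModuleCat.of R J) := Module.injective_object_of_injective_module R J
  obtain ⟨P₁, hy'⟩ := hy
  -- the diagonal vanishes and the cocycle is alternating
  have key : ∀ k ≤ l, ∃ (N' P : ℕ) (a : Fin l → J), ∀ i j : Fin l, (i : ℕ) < k → (j : ℕ) < k →
      (g i * g j) ^ P • (g i * g j) ^ N' • f (y i j) =
        (g i * g j) ^ P • (g i * g j) ^ N • (g j ^ N' • a i - g i ^ N' • a j) := by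
    intro k
    induction k with
    | zero => exact fun _ => ⟨0, 0, 0, fun i _ h => absurd h (Nat.not_lt_zero _)⟩
    | succ k ih =>
      intro hk
      obtain ⟨N', P, a, ha⟩ := ih (Nat.le_of_succ_le hk)
      let v : Fin l := ⟨k, hk⟩
      let h : Fin k → R := fun j => g (Fin.castLE (Nat.le_of_succ_le hk) j) * g v
      let b : Fin k → J := fun j =>
        g v ^ N' • h j ^ N • a (Fin.castLE (Nat.le_of_succ_le hk) j) -
          h j ^ N' • f (y (Fin.castLE (Nat.le_of_succ_le hk) j) v)
      have hb : Compat h (N + N') b := by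
        refine ⟨P + P₁, fun i j => ?_⟩
        let i' := Fin.castLE (Nat.le_of_succ_le hk) i
        let j' := Fin.castLE (Nat.le_of_succ_le hk) j
        have e1 := ha i' j' i.2 j.2
        have e2 := congrArg f (hy' i' j' v)
        simp only [map_smul, map_add, map_sub, map_zero] at e2
        simp only [b, h, smul_sub, smul_smul, smul_add] at e1 e2 ⊢
        linear_combination (norm := (match_scalars <;> ring))
          (-((g i' * g j') ^ P₁ * g v ^ (2 * (P + P₁) + 2 * N + 2 * N'))) • e1 +
          ((g i' * g j') ^ (P + N') * g v ^ (P₁ + 2 * P + 2 * N' + N)) • e2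
      obtain ⟨m, Q, hm⟩ := exists_glues_of_injective h hb
      refine ⟨N', P + Q + 3 * P₁ + 2 * N + N', Function.update a v (g v ^ N' • m), fun i j hi hj => ?_⟩
      have hlt : ∀ i : Fin l, (i : ℕ) < k + 1 → (i : ℕ) < k ∨ i = v := fun i hi =>
        (Nat.lt_succ_iff_lt_or_eq.1 hi).imp id fun e => Fin.ext e
      have hold : ∀ i : Fin l, (i : ℕ) < k → Function.update a v (g v ^ N' • m) i = a i := fun i hi =>
        Function.update_of_ne (fun e => by rw [e] at hi; exact lt_irrefl _ hi) _ _
      have hvv : (g v * g v * g v) ^ P₁ • g v ^ N • f (y v v) = 0 := by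
        have := congrArg f (hy' v v v)
        simpa only [map_smul, map_add, map_sub, map_zero, add_sub_cancel_right] using this
      have hcross : ∀ i : Fin l, (i : ℕ) < k →
          (g i * g v) ^ Q • (g i * g v) ^ (N + N') • m =
            (g i * g v) ^ Q • (g v ^ N' • (g i * g v) ^ N • a i - (g i * g v) ^ N' • f (y i v)) := fun i hi => by
        have := hm ⟨i, hi⟩
        rw [pow_add, mul_smul] at this
        exact this
      rcases hlt i hi with hi' | rfl <;> rcases hlt j hj with hj' | rfl
      · rw [hold i hi', hold j hj']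
        have := ha i j hi' hj'
        linear_combination (norm := (match_scalars <;> ring))
          (g i * g j) ^ (Q + 3 * P₁ + 2 * N + N') • this
      · rw [hold i hi', Function.update_self]
        have := hcross i hi'
        linear_combination (norm := (match_scalars <;> ring))
          (g i * g v) ^ (P + 3 * P₁ + 2 * N + N') • this
      · rw [hold j hj', Function.update_self]
        have := hcross j hj'
        have e2 := congrArg f (hy' v j v)
        simp only [map_smul, map_add, map_sub, map_zero] at e2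
        linear_combination (norm := (match_scalars <;> ring))
          (-(g j * g v) ^ (P + 3 * P₁ + 2 * N + N')) • this +
          (g j ^ (P + Q + 2 * P₁ + 2 * N + 2 * N') * g v ^ (P + Q + P₁ + N + 2 * N')) • e2 +
          (g j ^ (P + Q + 3 * P₁ + 3 * N + 2 * N') * g v ^ (P + Q + 2 * N')) • hvv
      · rw [Function.update_self, sub_self, smul_zero, smul_zero]
        linear_combination (norm := (match_scalars <;> ring))
          (g v ^ (2 * P + 2 * Q + 3 * P₁ + 3 * N + 4 * N')) • hvv
  obtain ⟨N', P, a, ha⟩ := key l le_rfl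
  replace ha := fun i j => ha i j i.2 j.2
  let q := (LinearMap.range f).mkQ
  have hqc : Compat g N' (fun i => q (a i)) := by
    refine ⟨P + N, fun i j => ?_⟩
    show _ • _ • q (a i) = _ • _ • q (a j)
    rw [← map_smul, ← map_smul, ← map_smul, ← map_smul, ← sub_eq_zero, ← map_sub, Submodule.mkQ_apply,
      Submodule.Quotient.mk_eq_zero]
    refine ⟨(g i * g j) ^ P • (g i * g j) ^ N' • y i j, ?_⟩
    rw [map_smul, map_smul, ha i j]
    simp only [smul_sub, smul_smul]
    congr 2 <;> ring
  have hS : (ShortComplex.mk (ModuleCat.ofHom f) (ModuleCat.ofHom q)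
      (ModuleCat.hom_ext (LinearMap.range_mkQ_comp f))).ShortExact :=
    { exact := (ShortComplex.ShortExact.moduleCat_exact_iff_function_exact _).2 fun y =>
        LinearMap.exact_map_mkQ_range f y
      mono_f := (ModuleCat.mono_iff_injective _).2 hf
      epi_g := (ModuleCat.epi_iff_surjective _).2 (Submodule.mkQ_surjective _) }
  have hQ : ∀ z : (localCohomology I 1).obj (ModuleCat.of R (J ⧸ LinearMap.range f)), c • z = 0 := fun z => by
    refine (LC.shiftEquiv I hS (fun i => LC.subsingleton_of_injective I (ModuleCat.of R J) i) 0).injective ?_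
    rw [map_smul, map_zero]
    exact hc _
  obtain ⟨mq, P', hP'⟩ := killsGlue_of_H g I hI hQ N' _ hqc
  obtain ⟨m, rfl⟩ := Submodule.mkQ_surjective _ mq
  have hb : ∀ i, ∃ b : M, f b = g i ^ (P' + N') • m - g i ^ P' • c • a i := fun i => by
    show _ ∈ LinearMap.range f
    rw [← Submodule.Quotient.mk_eq_zero, ← Submodule.mkQ_apply, map_sub, sub_eq_zero, map_smul,
      map_smul, map_smul]
    exact hP' i
  choose b hb using hb
  refine ⟨P' + N', fun i => -b i, P, fun i j => hf ?_⟩
  simp only [Pi.smul_apply, map_smul, map_sub, map_neg, hb]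
  linear_combination (norm := (simp only [smul_sub, smul_neg, smul_smul]; match_scalars <;> ring))
    (c * (g i * g j) ^ P') • ha i j

end Kills

end Groth.Agent.P1Punct
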